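import Mathlib

/-!
# The de Rham differential on the exterior algebra of the Kähler differentials

The differential is obtained from the algebra map `x ↦ (σ x, d x; 0, x)` into upper triangular
`2 × 2` matrices over the exterior algebra, `σ` being the grade involution.
-/

set_option autoImplicit false

universe u v

namespace Groth.Agent.DeRham

variable (R : Type u) (A : Type v) [CommRing R] [CommRing A] [Algebra R A]

/-- The algebra of forms. -/
abbrev Forms := ExteriorAlgebra A (KaehlerDifferential R A)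

local notation "Ω" => KaehlerDifferential R A
local notation "E" => ExteriorAlgebra A (KaehlerDifferential R A)
local notation "ιE" => (ExteriorAlgebra.ι A : (KaehlerDifferential R A) →ₗ[A] ExteriorAlgebra A (KaehlerDifferential R A))
local notation "Dd" => KaehlerDifferential.D R A
local notation "σ" => (CliffordAlgebra.involute : ExteriorAlgebra A (KaehlerDifferential R A) →ₐ[A] _)

section General

variable {A} {M : Type*} [AddCommGroup M] [Module A M]

theorem ι_mul_eq_involute_mul (m : M) (x : ExteriorAlgebra A M) :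
    ExteriorAlgebra.ι A m * x = CliffordAlgebra.involute x * ExteriorAlgebra.ι A m := by
  induction x using ExteriorAlgebra.induction with
  | algebraMap r => rw [AlgHom.commutes, Algebra.commutes]
  | ι n => rw [CliffordAlgebra.involute_ι, neg_mul, eq_neg_iff_add_eq_zero,
      ExteriorAlgebra.ι_add_mul_swap]
  | mul a b ha hb => rw [map_mul, ← mul_assoc, ha, mul_assoc, hb, ← mul_assoc]
  | add a b ha hb => rw [map_add, mul_add, add_mul, ha, hb]

theorem involute_of_mem (p : ℕ) (x : ExteriorAlgebra A M)
    (hx : x ∈ ExteriorAlgebra.exteriorPower A p M) :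
    CliffordAlgebra.involute x = (-1) ^ p * x := by
  induction hx using Submodule.pow_induction_on_left' with
  | algebraMap r => simp
  | add x y i _ _ ihx ihy => rw [map_add, ihx, ihy, mul_add]
  | mem_mul m hm i y _ ih =>
    obtain ⟨m, rfl⟩ := hm
    rw [map_mul, ih, CliffordAlgebra.involute_ι, pow_succ]
    have h : Commute ((-1 : ExteriorAlgebra A M) ^ i) (ExteriorAlgebra.ι A m) :=
      ((Commute.neg_one_left _).pow_left _)
    rw [neg_mul, h.symm.left_comm, mul_assoc ((-1 : ExteriorAlgebra A M) ^ i) (-1), neg_one_mul,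
      mul_neg]

theorem ι_mem_one (m : M) : ExteriorAlgebra.ι A m ∈ ExteriorAlgebra.exteriorPower A 1 M := by
  simp [ExteriorAlgebra.exteriorPower, pow_one]

theorem algebraMap_mem_zero (a : A) :
    algebraMap A (ExteriorAlgebra A M) a ∈ ExteriorAlgebra.exteriorPower A 0 M := by
  simp [ExteriorAlgebra.exteriorPower, pow_zero]

theorem mul_mem {p q : ℕ} {x y : ExteriorAlgebra A M}
    (hx : x ∈ ExteriorAlgebra.exteriorPower A p M) (hy : y ∈ ExteriorAlgebra.exteriorPower A q M) :
    x * y ∈ ExteriorAlgebra.exteriorPower A (p + q) M := by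
  have h := Submodule.mul_mem_mul hx hy
  rwa [← pow_add] at h

end General

noncomputable section

/-- Upper triangular matrices `(σ x, y; 0, x)`. -/
def twSubring : Subring (Matrix (Fin 2) (Fin 2) E) where
  carrier := {m | m 1 0 = 0 ∧ m 0 0 = σ (m 1 1)}
  mul_mem' := by
    rintro a b ⟨ha, ha'⟩ ⟨hb, hb'⟩
    constructor
    · simp [Matrix.mul_apply, Fin.sum_univ_two, ha, hb]
    · simp [Matrix.mul_apply, Fin.sum_univ_two, ha, hb, ha', hb']
  one_mem' := by simp
  add_mem' := by
    rintro a b ⟨ha, ha'⟩ ⟨hb, hb'⟩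
    constructor
    · simp [ha, hb]
    · simp [ha', hb']
  zero_mem' := by simp
  neg_mem' := by
    rintro a ⟨ha, ha'⟩
    constructor
    · simp [ha]
    · simp [ha']

/-- The twisted square-zero extension of the algebra of forms by itself. -/
def Tw : Type v := ↥(twSubring R A)

instance : Ring (Tw R A) := inferInstanceAs (Ring ↥(twSubring R A))

variable {R A}

/-- The value component. -/
def Tw.fst (t : Tw R A) : E := t.1 1 1

/-- The derivative component. -/
def Tw.snd (t : Tw R A) : E := t.1 0 1

/-- Constructor. -/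
def Tw.mk (x y : E) : Tw R A :=
  ⟨!![σ x, y; 0, x], by constructor <;> simp⟩

@[simp] theorem Tw.fst_mk (x y : E) : (Tw.mk x y).fst = x := by simp [Tw.fst, Tw.mk]
@[simp] theorem Tw.snd_mk (x y : E) : (Tw.mk x y).snd = y := by simp [Tw.snd, Tw.mk]
@[simp] theorem Tw.fst_zero : (0 : Tw R A).fst = 0 := rfl
@[simp] theorem Tw.snd_zero : (0 : Tw R A).snd = 0 := rfl
@[simp] theorem Tw.fst_one : (1 : Tw R A).fst = 1 := rfl
@[simp] theorem Tw.snd_one : (1 : Tw R A).snd = 0 := rfl
@[simp] theorem Tw.fst_add (s t : Tw R A) : (s + t).fst = s.fst + t.fst := rfl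
@[simp] theorem Tw.snd_add (s t : Tw R A) : (s + t).snd = s.snd + t.snd := rfl

@[simp] theorem Tw.fst_mul (s t : Tw R A) : (s * t).fst = s.fst * t.fst := by
  show (s.1 * t.1) 1 1 = _
  simp [Tw.fst, Matrix.mul_apply, Fin.sum_univ_two, s.2.1]

@[simp] theorem Tw.snd_mul (s t : Tw R A) :
    (s * t).snd = s.snd * t.fst + σ s.fst * t.snd := by
  show (s.1 * t.1) 0 1 = _
  simp [Tw.fst, Tw.snd, Matrix.mul_apply, Fin.sum_univ_two, s.2.2, add_comm]

theorem Tw.ext' {s t : Tw R A} (h1 : s.fst = t.fst) (h2 : s.snd = t.snd) : s = t := by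
  apply Subtype.ext
  ext i j
  fin_cases i <;> fin_cases j
  · show s.1 0 0 = t.1 0 0
    rw [s.2.2, t.2.2]; exact congrArg _ h1
  · exact h2
  · show s.1 1 0 = t.1 1 0
    rw [s.2.1, t.2.1]
  · exact h1

variable (R A)

/-- `a ↦ (a, D a)`. -/
def twMap : A →+* Tw R A where
  toFun a := Tw.mk (algebraMap A E a) (ιE (Dd a))
  map_one' := Tw.ext' (by simp) (by simp)
  map_zero' := Tw.ext' (by simp) (by simp)
  map_add' a b := Tw.ext' (by simp) (by simp)
  map_mul' a b := by
    refine Tw.ext' (by simp) ?_
    simp only [Tw.snd_mk, Tw.snd_mul, Tw.fst_mk, AlgHom.commutes, Derivation.leibniz, map_add,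
      map_smul]
    rw [Algebra.smul_def, Algebra.smul_def, ← Algebra.commutes b (ιE (Dd a))]
    rw [add_comm]

theorem twMap_central (a : A) (t : Tw R A) : twMap R A a * t = t * twMap R A a := by
  refine Tw.ext' (by simp [twMap, Algebra.commutes]) ?_
  simp only [twMap, RingHom.coe_mk, MonoidHom.coe_mk, OneHom.coe_mk, Tw.snd_mul, Tw.snd_mk,
    Tw.fst_mk, AlgHom.commutes]
  rw [ι_mul_eq_involute_mul, Algebra.commutes a t.snd, add_comm]

instance : Algebra A (Tw R A) := (twMap R A).toAlgebra' (twMap_central R A)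

instance : Algebra R (Tw R A) :=
  ((twMap R A).comp (algebraMap R A)).toAlgebra' fun r t => twMap_central R A _ t

instance : IsScalarTower R A (Tw R A) := IsScalarTower.of_algebraMap_eq fun _ => rfl

variable {R A}

@[simp] theorem Tw.fst_smul (a : A) (t : Tw R A) : (a • t).fst = algebraMap A E a * t.fst := by
  rw [Algebra.smul_def, Tw.fst_mul]; simp [RingHom.algebraMap_toAlgebra', twMap]

@[simp] theorem Tw.snd_smul (a : A) (t : Tw R A) :
    (a • t).snd = ιE (Dd a) * t.fst + algebraMap A E a * t.snd := by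
  rw [Algebra.smul_def, Tw.snd_mul]; simp [RingHom.algebraMap_toAlgebra', twMap]

@[simp] theorem Tw.fst_algebraMap (a : A) : (algebraMap A (Tw R A) a).fst = algebraMap A E a := by
  simp [RingHom.algebraMap_toAlgebra', twMap]

@[simp] theorem Tw.snd_algebraMap (a : A) : (algebraMap A (Tw R A) a).snd = ιE (Dd a) := by
  simp [RingHom.algebraMap_toAlgebra', twMap]

variable (R A)

/-- `a ↦ (d a, 0)`, a derivation. -/
def twDer : Derivation R A (Tw R A) where
  toFun a := Tw.mk (ιE (Dd a)) 0
  map_add' a b := Tw.ext' (by simp) (by simp)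
  map_smul' r a := by
    rw [RingHom.id_apply, ← IsScalarTower.algebraMap_smul A r (Tw.mk (ιE (Dd a)) 0)]
    refine Tw.ext' ?_ ?_
    · rw [Tw.fst_mk, Tw.fst_smul, Tw.fst_mk, Derivation.map_smul, LinearMap.map_smul_of_tower, Algebra.smul_def]
      rw [IsScalarTower.algebraMap_apply R A E]
    · rw [Tw.snd_mk, Tw.snd_smul]; simp
  map_one_eq_zero' := Tw.ext' (by simp) (by simp)
  leibniz' a b := by
    refine Tw.ext' ?_ ?_
    · simp [Derivation.leibniz, Algebra.smul_def]
    · simp only [LinearMap.coe_mk, AddHom.coe_mk, Tw.snd_mk, Tw.snd_add, Tw.snd_smul, Tw.fst_mk,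
        mul_zero, add_zero]
      rw [ExteriorAlgebra.ι_add_mul_swap]

/-- The map on one-forms `m ↦ (m, d m)`. -/
noncomputable def twLift : Ω →ₗ[A] Tw R A := (twDer R A).liftKaehlerDifferential

theorem twLift_D (a : A) : twLift R A (Dd a) = Tw.mk (ιE (Dd a)) 0 :=
  Derivation.liftKaehlerDifferential_comp_D _ a

theorem twLift_spec (m : Ω) :
    (twLift R A m).fst = ιE m ∧
      (twLift R A m).snd ∈ ExteriorAlgebra.exteriorPower A 2 Ω := by
  have hm : m ∈ Submodule.span A (Set.range Dd) := by
    rw [KaehlerDifferential.span_range_derivation]; trivial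
  induction hm using Submodule.span_induction with
  | mem x hx => obtain ⟨a, rfl⟩ := hx; simp [twLift_D]
  | zero => simp
  | add x y _ _ hx hy =>
    simp only [map_add, Tw.fst_add, Tw.snd_add]
    exact ⟨by rw [hx.1, hy.1], add_mem hx.2 hy.2⟩
  | smul a x _ hx =>
    simp only [map_smul, Tw.fst_smul, Tw.snd_smul, hx.1]
    refine ⟨by rw [Algebra.smul_def], add_mem (mul_mem (ι_mem_one _) (ι_mem_one _)) ?_⟩
    rw [← Algebra.smul_def]; exact Submodule.smul_mem _ _ hx.2

theorem twLift_sq (m : Ω) : twLift R A m * twLift R A m = 0 := by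
  refine Tw.ext' ?_ ?_
  · simp [(twLift_spec R A m).1]
  · rw [Tw.snd_mul, (twLift_spec R A m).1, CliffordAlgebra.involute_ι, neg_mul,
      ι_mul_eq_involute_mul, involute_of_mem 2 _ (twLift_spec R A m).2]
    simp

/-- `x ↦ (x, d x)` as an algebra map. -/
noncomputable def twHom : E →ₐ[A] Tw R A :=
  ExteriorAlgebra.lift A ⟨twLift R A, twLift_sq R A⟩

@[simp] theorem twHom_ι (m : Ω) : twHom R A (ιE m) = twLift R A m :=
  ExteriorAlgebra.lift_ι_apply A _ _ m

theorem fst_twHom (x : E) : (twHom R A x).fst = x := by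
  induction x using ExteriorAlgebra.induction with
  | algebraMap a => simp
  | ι m => simp [(twLift_spec R A m).1]
  | mul a b ha hb => simp [ha, hb]
  | add a b ha hb => simp [ha, hb]

/-- The de Rham differential. -/
noncomputable def dR : E →ₗ[R] E where
  toFun x := (twHom R A x).snd
  map_add' x y := by simp
  map_smul' r x := by
    rw [RingHom.id_apply, ← IsScalarTower.algebraMap_smul A r x, map_smul, Tw.snd_smul]
    simp [← Algebra.smul_def]

theorem dR_algebraMap (a : A) : dR R A (algebraMap A E a) = ιE (Dd a) := by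
  show (twHom R A _).snd = _
  simp

theorem dR_ι_D (a : A) : dR R A (ιE (Dd a)) = 0 := by
  show (twHom R A _).snd = _
  simp [twLift_D]

theorem dR_mul (x y : E) : dR R A (x * y) = dR R A x * y + σ x * dR R A y := by
  show (twHom R A (x * y)).snd = _
  rw [map_mul, Tw.snd_mul, fst_twHom, fst_twHom]
  rfl

theorem dR_mul_homogeneous (p : ℕ) (x y : E) (hx : x ∈ ExteriorAlgebra.exteriorPower A p Ω) :
    dR R A (x * y) = dR R A x * y + (-1) ^ p * x * dR R A y := by
  rw [dR_mul, involute_of_mem p x hx]

theorem dR_ι_mem (m : Ω) : dR R A (ιE m) ∈ ExteriorAlgebra.exteriorPower A 2 Ω := by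
  show (twHom R A _).snd ∈ _
  rw [twHom_ι]
  exact (twLift_spec R A m).2

theorem dR_mem (p : ℕ) (x : E) (hx : x ∈ ExteriorAlgebra.exteriorPower A p Ω) :
    dR R A x ∈ ExteriorAlgebra.exteriorPower A (p + 1) Ω := by
  induction hx using Submodule.pow_induction_on_left' with
  | algebraMap r => rw [dR_algebraMap]; exact ι_mem_one _
  | add x y i _ _ ihx ihy => rw [map_add]; exact add_mem ihx ihy
  | mem_mul m hm i y hy ih =>
    obtain ⟨m, rfl⟩ := hm
    rw [dR_mul, CliffordAlgebra.involute_ι]
    refine add_mem ?_ ?_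
    · have h := mul_mem (dR_ι_mem R A m) hy
      rwa [show 2 + i = i.succ + 1 by omega] at h
    · have h := mul_mem (ι_mem_one m) ih
      rw [show 1 + (i + 1) = i.succ + 1 by omega] at h
      rw [neg_mul]
      exact neg_mem h

theorem dR_involute (x : E) : dR R A (σ x) = -σ (dR R A x) := by
  induction x using ExteriorAlgebra.induction with
  | algebraMap a => simp [dR_algebraMap]
  | ι m =>
    rw [CliffordAlgebra.involute_ι, map_neg, involute_of_mem 2 _ (dR_ι_mem R A m)]
    simp
  | mul a b ha hb =>
    rw [map_mul, dR_mul, ha, hb, dR_mul, map_add, map_mul, map_mul]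
    simp [add_comm]
  | add a b ha hb => simp [ha, hb, add_comm]

theorem dR_dR (x : E) : dR R A (dR R A x) = 0 := by
  have hmul : ∀ a b : E, dR R A (dR R A a) = 0 → dR R A (dR R A b) = 0 →
      dR R A (dR R A (a * b)) = 0 := by
    intro a b ha hb
    simp [dR_mul, map_add, ha, hb, dR_involute]
  induction x using ExteriorAlgebra.induction with
  | algebraMap a => rw [dR_algebraMap, dR_ι_D]
  | ι m =>
    have hm : m ∈ Submodule.span A (Set.range Dd) := by
      rw [KaehlerDifferential.span_range_derivation]; trivial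
    induction hm using Submodule.span_induction with
    | mem x hx => obtain ⟨a, rfl⟩ := hx; simp [dR_ι_D]
    | zero => simp
    | add x y _ _ hx hy => simp [map_add, hx, hy]
    | smul a x _ hx =>
      rw [map_smul, Algebra.smul_def]
      exact hmul _ _ (by rw [dR_algebraMap, dR_ι_D]) hx
  | mul a b ha hb => exact hmul a b ha hb
  | add a b ha hb => simp [ha, hb]

variable {R A}

/-- Uniqueness of the de Rham differential. -/
theorem eq_dR (d : E →ₗ[R] E)
    (h0 : ∀ a : A, d (algebraMap A E a) = ιE (Dd a))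
    (hder : ∀ (p : ℕ) (x y : E), x ∈ ExteriorAlgebra.exteriorPower A p Ω →
      d (x * y) = d x * y + (-1) ^ p * x * d y)
    (hdd : ∀ x, d (d x) = 0) : d = dR R A := by
  have hι : ∀ m : Ω, d (ιE m) = dR R A (ιE m) := by
    intro m
    have hm : m ∈ Submodule.span A (Set.range Dd) := by
      rw [KaehlerDifferential.span_range_derivation]; trivial
    induction hm using Submodule.span_induction with
    | mem x hx => obtain ⟨a, rfl⟩ := hx; rw [dR_ι_D, ← h0, hdd]
    | zero => simp
    | add x y _ _ hx hy => simp [map_add, hx, hy]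
    | smul a x _ hx =>
      rw [map_smul, Algebra.smul_def, hder 0 _ _ (algebraMap_mem_zero a),
        dR_mul_homogeneous R A 0 _ _ (algebraMap_mem_zero a), h0, dR_algebraMap, hx]
  refine LinearMap.ext fun x => ?_
  induction x using DirectSum.Decomposition.inductionOn fun i => ExteriorAlgebra.exteriorPower A i Ω with
  | zero => simp
  | add _ _ hm hm' => simp [hm, hm']
  | @homogeneous p x =>
    obtain ⟨x, hx⟩ := x
    induction hx using Submodule.pow_induction_on_left' with
    | algebraMap r => rw [h0, dR_algebraMap]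
    | add x y i _ _ ihx ihy => simp only [map_add] at *; rw [ihx, ihy]
    | mem_mul m hm i y hy ih =>
      obtain ⟨m, rfl⟩ := hm
      show d (ιE m * y) = dR R A (ιE m * y)
      rw [hder 1 _ _ (ι_mem_one m), dR_mul_homogeneous R A 1 _ _ (ι_mem_one m), hι]
      rw [show d y = dR R A y from ih]

end

end Groth.Agent.DeRham
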