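import Groth.Agent.Lib.DeRham.Basic

/-!
# The algebraic Poincaré lemma in characteristic zero

The homotopy is contraction with the Euler vector field; the Lie derivative multiplies a monomial
form by its total weight, which is positive in positive form degree.
-/

set_option autoImplicit false

universe u

namespace Groth.Agent.DeRham

noncomputable section

variable (k : Type u) [Field k] (n : ℕ)

local notation "P" => MvPolynomial (Fin n) k
local notation "Ω" => KaehlerDifferential k (MvPolynomial (Fin n) k)
local notation "E" => ExteriorAlgebra (MvPolynomial (Fin n) k) (KaehlerDifferential k (MvPolynomial (Fin n) k))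
local notation "ιE" => (ExteriorAlgebra.ι (MvPolynomial (Fin n) k) : KaehlerDifferential k (MvPolynomial (Fin n) k) →ₗ[MvPolynomial (Fin n) k] _)
local notation "Dd" => KaehlerDifferential.D k (MvPolynomial (Fin n) k)
local notation "dd" => dR k (MvPolynomial (Fin n) k)

/-- The Euler derivation. -/
def euler : Derivation k P P := MvPolynomial.mkDerivation k MvPolynomial.X

/-- Contraction with the Euler vector field, on one-forms. -/
def eulerForm : Ω →ₗ[P] P := (euler k n).liftKaehlerDifferential

/-- Contraction with the Euler vector field. -/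
def contr : E →ₗ[k] E :=
  (CliffordAlgebra.contractLeft (Q := (0 : QuadraticForm P Ω)) (eulerForm k n)).restrictScalars k

/-- The Lie derivative along the Euler vector field. -/
def lie : E →ₗ[k] E := (dd).comp (contr k n) + (contr k n).comp (dd)

theorem eulerForm_D (a : P) : eulerForm k n (Dd a) = euler k n a :=
  Derivation.liftKaehlerDifferential_comp_D _ a

theorem euler_monomial (s : Fin n →₀ ℕ) (c : k) :
    euler k n (MvPolynomial.monomial s c) = (s.degree : k) • MvPolynomial.monomial s c := by
  induction s using Finsupp.induction generalizing c with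
  | zero => simp
  | single_add a b f _ _ ih =>
    rw [MvPolynomial.monomial_single_add, Derivation.leibniz, ih, Derivation.leibniz_pow, euler,
      MvPolynomial.mkDerivation_X, map_add, Finsupp.degree_single, Nat.cast_add, add_smul,
      smul_eq_mul, smul_eq_mul, smul_eq_mul, mul_smul_comm, add_comm]
    congr 1
    rcases b with - | b
    · simp
    · rw [Nat.succ_sub_one, ← pow_succ, mul_smul_comm, ← Nat.cast_smul_eq_nsmul k,
        mul_comm (MvPolynomial.monomial f c)]

theorem coeff_euler (a : P) (s : Fin n →₀ ℕ) :
    MvPolynomial.coeff s (euler k n a) = (s.degree : k) * MvPolynomial.coeff s a := by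
  induction a using MvPolynomial.induction_on' with
  | monomial t c =>
    rw [euler_monomial, MvPolynomial.coeff_smul, MvPolynomial.coeff_monomial, smul_eq_mul]
    split_ifs with ht
    · rw [ht]
    · simp
  | add p q hp hq =>
    rw [map_add, MvPolynomial.coeff_add, MvPolynomial.coeff_add, hp, hq, mul_add]

theorem euler_eq_zero [CharZero k] (a : P) (h : euler k n a = 0) :
    ∃ c : k, a = MvPolynomial.C c := by
  refine ⟨MvPolynomial.coeff 0 a, ?_⟩
  ext s
  rw [MvPolynomial.coeff_C]
  by_cases hs : (0 : Fin n →₀ ℕ) = s
  · subst hs; simp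
  · rw [if_neg hs]
    have key := coeff_euler k n a s
    rw [h, MvPolynomial.coeff_zero] at key
    refine (mul_eq_zero.mp key.symm).resolve_left fun h0 => hs ?_
    exact ((Finsupp.degree_eq_zero_iff s).mp (Nat.cast_eq_zero.mp h0)).symm

theorem const_of_dR_eq_zero [CharZero k] (a : P) (h : dd (algebraMap P E a) = 0) :
    ∃ c : k, a = MvPolynomial.C c := by
  refine euler_eq_zero k n a ?_
  rw [dR_algebraMap, ExteriorAlgebra.ι_eq_zero_iff] at h
  rw [← eulerForm_D, h, map_zero]

theorem contr_algebraMap (a : P) : contr k n (algebraMap P E a) = 0 :=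
  CliffordAlgebra.contractLeft_algebraMap _ _ a

theorem contr_ι_mul (m : Ω) (x : E) :
    contr k n (ιE m * x) = algebraMap P E (eulerForm k n m) * x - ιE m * contr k n x := by
  show CliffordAlgebra.contractLeft (eulerForm k n) (ιE m * x) = _
  rw [CliffordAlgebra.contractLeft_ι_mul, Algebra.smul_def]
  rfl

theorem contr_mem (p : ℕ) (x : E) (hx : x ∈ ExteriorAlgebra.exteriorPower P p Ω) :
    contr k n x ∈ ExteriorAlgebra.exteriorPower P (p - 1) Ω := by
  induction hx using Submodule.pow_induction_on_left' with
  | algebraMap r => rw [contr_algebraMap]; exact zero_mem _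
  | add x y i _ _ ihx ihy => rw [map_add]; exact add_mem ihx ihy
  | mem_mul m hm i y hy ih =>
    obtain ⟨m, rfl⟩ := hm
    rw [contr_ι_mul, Nat.succ_sub_one]
    refine sub_mem ?_ ?_
    · rw [← Algebra.smul_def]; exact Submodule.smul_mem _ _ hy
    · rcases i with - | i
      · have h0 : contr k n y = 0 := by
          rw [pow_zero] at hy
          obtain ⟨r, rfl⟩ := Submodule.mem_one.mp hy
          exact contr_algebraMap k n r
        rw [h0, mul_zero]; exact zero_mem _
      · have h := mul_mem (ι_mem_one m) ih
        rwa [show 1 + (i + 1 - 1) = i + 1 by omega] at h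

theorem lie_eulerForm (a : P) : lie k n (algebraMap P E a) = algebraMap P E (euler k n a) := by
  simp only [lie, LinearMap.add_apply, LinearMap.comp_apply, contr_algebraMap, map_zero, zero_add,
    dR_algebraMap]
  rw [show ιE (Dd a) = ιE (Dd a) * 1 from (mul_one _).symm, contr_ι_mul, eulerForm_D]
  simp [contr, CliffordAlgebra.contractLeft_one]

theorem lie_ι_X_mul (j : Fin n) (x : E) :
    lie k n (ιE (Dd (MvPolynomial.X j)) * x) =
      ιE (Dd (MvPolynomial.X j)) * x + ιE (Dd (MvPolynomial.X j)) * lie k n x := by
  have h1 : ∀ y : E, dd (ιE (Dd (MvPolynomial.X j)) * y) =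
      -(ιE (Dd (MvPolynomial.X j)) * dd y) := by
    intro y
    rw [dR_mul, dR_ι_D, CliffordAlgebra.involute_ι]
    simp
  have h2 : eulerForm k n (Dd (MvPolynomial.X j)) = MvPolynomial.X j := by
    rw [eulerForm_D, euler, MvPolynomial.mkDerivation_X]
  simp only [lie, LinearMap.add_apply, LinearMap.comp_apply, contr_ι_mul, h2, map_sub, h1,
    map_neg, dR_mul, dR_algebraMap, AlgHom.commutes, mul_add]
  abel

theorem dR_lie (x : E) : dd (lie k n x) = lie k n (dd x) := by
  simp [lie, dR_dR]

/-- Forms spanned by eigenvectors of the Lie derivative of weight at least `p`. -/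
def weightSpan (p : ℕ) : Submodule k E :=
  Submodule.span k {x | ∃ w : ℕ, p ≤ w ∧ lie k n x = (w : k) • x}

theorem algebraMap_mul_ι_mul (a : P) (m : Ω) (y : E) :
    ιE (a • m) * y = ιE m * (algebraMap P E a * y) := by
  rw [map_smul, smul_mul_assoc, ← mul_smul_comm, ← Algebra.smul_def]

theorem mem_weightSpan (p : ℕ) (x : E) (hx : x ∈ ExteriorAlgebra.exteriorPower P p Ω) :
    x ∈ weightSpan k n p := by
  induction p generalizing x with
  | zero =>
    rw [show ExteriorAlgebra.exteriorPower P 0 Ω = (1 : Submodule P E) from pow_zero _] at hx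
    obtain ⟨a, rfl⟩ := Submodule.mem_one.mp hx
    clear hx
    induction a using MvPolynomial.induction_on' with
    | monomial s c =>
      refine Submodule.subset_span ⟨s.degree, Nat.zero_le _, ?_⟩
      rw [lie_eulerForm, euler_monomial, ← IsScalarTower.algebraMap_smul P (s.degree : k)
        (algebraMap P E (MvPolynomial.monomial s c)), Algebra.smul_def (R := P) (A := E),
        Algebra.smul_def, map_mul]
    | add a b ha hb => rw [map_add]; exact add_mem ha hb
  | succ p ih =>
    rw [show ExteriorAlgebra.exteriorPower P (p + 1) Ω =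
      LinearMap.range ιE * ExteriorAlgebra.exteriorPower P p Ω from pow_succ' _ _] at hx
    induction hx using Submodule.mul_induction_on' with
    | mem_mul_mem m hm y hy =>
      obtain ⟨m, rfl⟩ := hm
      have hm' : m ∈ Submodule.span P (Set.range (KaehlerDifferential.mvPolynomialBasis k (Fin n))) := by
        rw [(KaehlerDifferential.mvPolynomialBasis k (Fin n)).span_eq]; trivial
      induction hm' using Submodule.span_induction generalizing y with
      | mem z hz =>
        obtain ⟨j, rfl⟩ := hz
        rw [KaehlerDifferential.mvPolynomialBasis_apply]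
        suffices hle : weightSpan k n p ≤ (weightSpan k n (p + 1)).comap
            (LinearMap.mulLeft k (ιE (Dd (MvPolynomial.X j)))) from hle (ih y hy)
        refine Submodule.span_le.mpr ?_
        rintro z ⟨w, hw, hz⟩
        refine Submodule.subset_span ⟨w + 1, by omega, ?_⟩
        show lie k n (_ * z) = _ • (_ * z)
        rw [lie_ι_X_mul, hz, mul_smul_comm, Nat.cast_add, Nat.cast_one, add_smul, one_smul, add_comm]
      | zero => simp
      | add a b _ _ ha hb => rw [map_add, add_mul]; exact add_mem (ha y hy) (hb y hy)
      | smul a z _ hz =>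
        rw [algebraMap_mul_ι_mul]
        exact hz _ (by rw [← Algebra.smul_def]; exact Submodule.smul_mem _ _ hy)
    | add a _ b _ ha hb => exact add_mem ha hb

theorem aeval_lie_dR (f : Polynomial k) (x : E) :
    dd (Polynomial.aeval (lie k n) f x) = Polynomial.aeval (lie k n) f (dd x) := by
  induction f using Polynomial.induction_on' with
  | add f g hf hg => simp [hf, hg]
  | monomial i c =>
    induction i generalizing x with
    | zero => simp
    | succ i ih =>
      rw [← Polynomial.monomial_mul_X, map_mul, Polynomial.aeval_X, Module.End.mul_apply,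
        Module.End.mul_apply, ih, dR_lie]

/-- **Poincaré lemma.** -/
theorem exists_dR_eq [CharZero k] (p : ℕ) (ω : E)
    (hω : ω ∈ ExteriorAlgebra.exteriorPower P (p + 1) Ω) (hd : dd ω = 0) :
    ∃ θ ∈ ExteriorAlgebra.exteriorPower P p Ω, dd θ = ω := by
  have hs : ∃ s : Multiset ℕ, (∀ w ∈ s, 1 ≤ w) ∧
      Polynomial.aeval (lie k n) (s.map fun w : ℕ => Polynomial.X - Polynomial.C (w : k)).prod ω = 0 := by
    have hω' := mem_weightSpan k n (p + 1) ω hω
    clear hω hd
    induction hω' using Submodule.span_induction with
    | mem x hx =>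
      obtain ⟨w, hw, hx⟩ := hx
      refine ⟨{w}, by simpa using by omega, ?_⟩
      simp [hx, Nat.cast_smul_eq_nsmul, nsmul_eq_mul]
    | zero => exact ⟨0, by simp, by simp⟩
    | add x y _ _ hx hy =>
      obtain ⟨s, hs1, hs⟩ := hx
      obtain ⟨t, ht1, ht⟩ := hy
      refine ⟨s + t, fun w hw => (Multiset.mem_add.mp hw).elim (hs1 w) (ht1 w), ?_⟩
      rw [Multiset.map_add, Multiset.prod_add, map_add]
      nth_rw 1 [mul_comm]
      rw [map_mul, map_mul, Module.End.mul_apply, Module.End.mul_apply, hs, ht]
      simp
    | smul c x _ hx =>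
      obtain ⟨s, hs1, hs⟩ := hx
      exact ⟨s, hs1, by rw [map_smul, hs, smul_zero]⟩
  obtain ⟨s, hs1, hs⟩ := hs
  induction s using Multiset.induction generalizing ω with
  | empty => exact ⟨0, zero_mem _, by simpa using hs.symm⟩
  | cons w s ih =>
    rw [Multiset.map_cons, Multiset.prod_cons, mul_comm, map_mul, Module.End.mul_apply] at hs
    have hlie : lie k n ω = dd (contr k n ω) := by simp [lie, hd]
    have hη : Polynomial.aeval (lie k n) (Polynomial.X - Polynomial.C (w : k)) ω
        = lie k n ω - (w : k) • ω := by
      simp [Nat.cast_smul_eq_nsmul, nsmul_eq_mul]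
    rw [hη] at hs
    have hc : contr k n ω ∈ ExteriorAlgebra.exteriorPower P p Ω := contr_mem k n (p + 1) ω hω
    obtain ⟨θ, hθ, hθ'⟩ := ih (lie k n ω - (w : k) • ω)
      (by
        refine sub_mem ?_ ?_
        · rw [hlie]; exact dR_mem k _ p _ hc
        · rw [← IsScalarTower.algebraMap_smul P (w : k) ω]; exact Submodule.smul_mem _ _ hω)
      (by rw [hlie, map_sub, map_smul, dR_dR, hd]; simp)
      (fun v hv => hs1 v (Multiset.mem_cons_of_mem hv)) hs
    refine ⟨(w : k)⁻¹ • (contr k n ω - θ), ?_, ?_⟩
    · rw [← IsScalarTower.algebraMap_smul P (w : k)⁻¹ (contr k n ω - θ)]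
      exact Submodule.smul_mem _ _ (sub_mem hc hθ)
    · have hw : (w : k) ≠ 0 := by
        have := hs1 w (Multiset.mem_cons_self w s)
        exact Nat.cast_ne_zero.mpr (by omega)
      rw [map_smul, map_sub, hθ', ← hlie, sub_sub_cancel, inv_smul_smul₀ hw]

end

end Groth.Agent.DeRham
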